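import Mathlib

/-! Generic substitutions: non-trivial words take non-scalar values on conjugates of a split torus element. -/

set_option autoImplicit false

namespace Cfsg.Lib.Laws

open Polynomial Matrix

variable {F : Type*} [Field F] {n : Type*} [Fintype n] [DecidableEq n] {κ : Type*}

/-- The polynomial matrix `M · diag(X^E) · N`. -/
noncomputable def letterPoly (M N : Matrix n n F) (E : n → ℕ) : Matrix n n F[X] :=
  M.map C * diagonal (fun l => X ^ E l) * N.map C

theorem letterPoly_apply (M N : Matrix n n F) (E : n → ℕ) (i j : n) :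
    letterPoly M N E i j = ∑ l, C (M i l * N l j) * X ^ E l := by
  simp only [letterPoly, Matrix.mul_apply, Matrix.mul_diagonal, Matrix.map_apply]
  simp only [diagonal_apply, mul_ite, mul_zero, Finset.sum_ite_eq', Finset.mem_univ, if_true]
  refine Finset.sum_congr rfl fun l _ => ?_
  rw [map_mul]; ring

theorem letterPoly_natDegree_le (M N : Matrix n n F) (E : n → ℕ) (R : ℕ) (hE : ∀ l, E l ≤ R) (i j : n) :
    (letterPoly M N E i j).natDegree ≤ R := by
  rw [letterPoly_apply]
  exact natDegree_sum_le_of_forall_le _ _ fun l _ => (natDegree_C_mul_X_pow_le _ _).trans (hE l)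

theorem letterPoly_coeff (M N : Matrix n n F) (E : n → ℕ) (R : ℕ) (s : n) (hs : E s = R)
    (hl : ∀ l, l ≠ s → E l < R) (i j : n) :
    (letterPoly M N E i j).coeff R = vecMulVec (fun a => M a s) (N s) i j := by
  rw [letterPoly_apply, finsetSum_coeff, Finset.sum_eq_single s]
  · rw [vecMulVec_apply, coeff_C_mul_X_pow, if_pos hs.symm]
  · intro l _ h
    rw [coeff_C_mul_X_pow, if_neg (hl l h).ne']
  · exact fun h => absurd (Finset.mem_univ s) h

theorem prod_natDegree_coeff (P : κ → Matrix n n F[X]) (T : κ → Matrix n n F) (R : ℕ)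
    (hd : ∀ a i j, (P a i j).natDegree ≤ R) (hc : ∀ a i j, (P a i j).coeff R = T a i j) :
    ∀ l : List κ, (∀ i j, ((l.map P).prod i j).natDegree ≤ R * l.length) ∧
      ∀ i j, ((l.map P).prod i j).coeff (R * l.length) = (l.map T).prod i j := by
  intro l
  induction l with
  | nil =>
    constructor
    · intro i j; simp [Matrix.one_apply, apply_ite Polynomial.natDegree]
    · intro i j; simp [Matrix.one_apply, apply_ite (fun p : F[X] => p.coeff 0)]
  | cons a l ih =>
    obtain ⟨ih1, ih2⟩ := ih
    have hlen : R * (a :: l).length = R + R * l.length := by simp only [List.length_cons]; ring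
    rw [hlen]
    constructor
    · intro i j
      simp only [List.map_cons, List.prod_cons, Matrix.mul_apply]
      exact natDegree_sum_le_of_forall_le _ _ fun k _ =>
        natDegree_mul_le.trans (Nat.add_le_add (hd a i k) (ih1 k j))
    · intro i j
      simp only [List.map_cons, List.prod_cons, Matrix.mul_apply, finsetSum_coeff]
      refine Finset.sum_congr rfl fun k _ => ?_
      rw [coeff_mul_add_eq_of_natDegree_le (hd a i k) (ih1 k j), hc, ih2]

theorem rank_one_chain (u v : κ → n → F) (hv : ∀ a, v a ≠ 0) :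
    ∀ (l : List κ) (a : κ), (a :: l).IsChain (fun a b => v a ⬝ᵥ u b ≠ 0) →
      ∃ y, y ≠ 0 ∧ ((a :: l).map (fun b => vecMulVec (u b) (v b))).prod = vecMulVec (u a) y := by
  intro l
  induction l with
  | nil => intro a _; exact ⟨v a, hv a, by simp⟩
  | cons b l ih =>
    intro a h
    rw [List.isChain_cons_cons] at h
    obtain ⟨y, hy, hprod⟩ := ih b h.2
    refine ⟨(v a ⬝ᵥ u b) • y, smul_ne_zero h.1 hy, ?_⟩
    rw [List.map_cons, List.prod_cons, hprod, vecMulVec_mul_vecMulVec]

theorem vecMulVec_not_scalar [Nontrivial n] (u y : n → F) (hu : u ≠ 0) (hy : y ≠ 0) :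
    ¬ ((∀ i j, i ≠ j → u i * y j = 0) ∧ ∀ i j, u i * y i = u j * y j) := by
  rintro ⟨h1, h2⟩
  obtain ⟨a, ha⟩ := Function.ne_iff.1 hu
  obtain ⟨b, hb⟩ := Function.ne_iff.1 hy
  rw [Pi.zero_apply] at ha hb
  by_cases hab : a = b
  · subst hab
    obtain ⟨j, hj⟩ := exists_ne a
    have h := h1 j a hj
    have hj0 : u j = 0 := (mul_eq_zero.1 h).resolve_right hb
    have := h2 a j
    rw [hj0, zero_mul] at this
    exact mul_ne_zero ha hb this
  · exact mul_ne_zero ha hb (h1 a b hab)

/-- Elements of `Fˣ` whose mutual ratios avoid the roots of a given polynomial. -/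
theorem exists_ratio_avoid [Fintype F] [DecidableEq κ] (p : F[X]) (hp : p ≠ 0) (S : Finset κ)
    (hS : 2 * p.natDegree * S.card + 1 < Fintype.card F) :
    ∃ u : κ → Fˣ, ∀ i ∈ S, ∀ j ∈ S, i ≠ j → p.eval (((u i)⁻¹ * u j : Fˣ) : F) ≠ 0 := by
  classical
  induction S using Finset.induction_on with
  | empty => exact ⟨fun _ => 1, by simp⟩
  | @insert a S ha ih =>
    rw [Finset.card_insert_of_notMem ha] at hS
    obtain ⟨u, hu⟩ := ih (lt_of_le_of_lt (by gcongr; omega) hS)
    let Z : Finset Fˣ := (Finset.univ : Finset Fˣ).filter fun z => p.eval (z : F) = 0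
    have hZ : Z.card ≤ p.natDegree := by
      rw [← Finset.card_image_of_injective Z (f := fun z : Fˣ => (z : F)) (fun x y h => Units.ext h)]
      refine le_trans (Finset.card_le_card ?_) (p.roots.toFinset_card_le.trans (card_roots' p))
      intro z hz
      obtain ⟨x, hx, rfl⟩ := Finset.mem_image.1 hz
      rw [Multiset.mem_toFinset, mem_roots hp]
      exact (Finset.mem_filter.1 hx).2
    let B : Finset Fˣ := S.biUnion fun i => Z.image (fun z => u i * z) ∪ Z.image (fun z => u i * z⁻¹)
    have hB : B.card ≤ 2 * p.natDegree * S.card := by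
      refine Finset.card_biUnion_le.trans ?_
      refine (Finset.sum_le_card_nsmul S _ (2 * p.natDegree) fun i _ => ?_).trans ?_
      · refine (Finset.card_union_le _ _).trans ?_
        have h1 := Finset.card_image_le (s := Z) (f := fun z => u i * z)
        have h2 := Finset.card_image_le (s := Z) (f := fun z => u i * z⁻¹)
        omega
      · rw [smul_eq_mul, mul_comm]
    have hcard : B.card < (Finset.univ : Finset Fˣ).card := by
      rw [Finset.card_univ, Fintype.card_units]
      have hle : 2 * p.natDegree * S.card ≤ 2 * p.natDegree * (S.card + 1) := by gcongr; omega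
      omega
    obtain ⟨x, -, hx⟩ := Finset.exists_mem_notMem_of_card_lt_card hcard
    refine ⟨Function.update u a x, ?_⟩
    intro i hi j hj hij
    have key : ∀ k ∈ S, ∀ z ∈ Z, x ≠ u k * z ∧ x ≠ u k * z⁻¹ := fun k hk z hz =>
      ⟨fun h => hx (Finset.mem_biUnion.2 ⟨k, hk, Finset.mem_union_left _ (Finset.mem_image.2 ⟨z, hz, h.symm⟩)⟩),
       fun h => hx (Finset.mem_biUnion.2 ⟨k, hk, Finset.mem_union_right _ (Finset.mem_image.2 ⟨z, hz, h.symm⟩)⟩)⟩
    rcases Finset.mem_insert.1 hi with rfl | hi'
    · have hjS : j ∈ S := (Finset.mem_insert.1 hj).resolve_left (Ne.symm hij)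
      rw [Function.update_self, Function.update_of_ne (Ne.symm hij)]
      intro h
      exact (key j hjS (x⁻¹ * u j) (Finset.mem_filter.2 ⟨Finset.mem_univ _, h⟩)).2 (by
        rw [_root_.mul_inv_rev, inv_inv, mul_inv_cancel_left])
    · have hia : i ≠ a := fun h => ha (h ▸ hi')
      rw [Function.update_of_ne hia]
      rcases Finset.mem_insert.1 hj with rfl | hj'
      · rw [Function.update_self]
        intro h
        exact (key i hi' ((u i)⁻¹ * x) (Finset.mem_filter.2 ⟨Finset.mem_univ _, h⟩)).1 (by
          rw [mul_inv_cancel_left])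
      · rw [Function.update_of_ne (fun h : j = a => ha (h ▸ hj'))]
        exact hu i hi' j hj' hij

/-- If a group contains a split one-parameter torus whose extreme weights are simple and an element whose matrix and inverse
have non-zero entries at the four extreme positions, then every non-trivial word takes a non-scalar value, for large fields. -/
theorem exists_nonscalar [Fintype F] [Nontrivial n] {G : Type*} [Group G] (φ : G →* GL n F)
    (e : n → ℕ) (R : ℕ) (hi lo : n) (hhi : e hi = 2 * R) (hlo : e lo = 0)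
    (hmid : ∀ l, l ≠ hi → e l < 2 * R) (hpos : ∀ l, l ≠ lo → 0 < e l)
    (D : Fˣ → G) (hD : ∀ t : Fˣ, (φ (D t) : Matrix n n F) = ((t : F) ^ R)⁻¹ • diagonal (fun l => (t : F) ^ e l))
    (A : G) (hA : ∀ a ∈ [hi, lo], ∀ b ∈ [hi, lo],
      (φ A : Matrix n n F) a b ≠ 0 ∧ (φ A⁻¹ : Matrix n n F) a b ≠ 0)
    {ι : Type*} (w : FreeGroup ι) (hw : w ≠ 1) [DecidableEq ι]
    (hcard : 16 * R * (w.toWord.length + 1) + 1 < Fintype.card F) :
    ∃ f : ι → G, ∀ c : F, (φ (FreeGroup.lift f w) : Matrix n n F) ≠ c • 1 := by
  classical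
  let MA : Matrix n n F := (φ A : Matrix n n F)
  let NA : Matrix n n F := (φ A⁻¹ : Matrix n n F)
  let q : n → n → F[X] := fun a b => ∑ l, C (NA a l * MA l b) * X ^ e l
  have qdeg : ∀ a b, (q a b).natDegree ≤ 2 * R := fun a b =>
    natDegree_sum_le_of_forall_le _ _ fun l _ => (natDegree_C_mul_X_pow_le _ _).trans (by
      by_cases h : l = hi
      · rw [h, hhi]
      · exact (hmid l h).le)
  have qne : ∀ a ∈ [hi, lo], ∀ b ∈ [hi, lo], q a b ≠ 0 := by
    intro a ha b hb h
    have := congrArg (fun r : F[X] => r.coeff (2 * R)) h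
    rw [finsetSum_coeff, Finset.sum_eq_single hi, coeff_C_mul_X_pow, if_pos hhi.symm, coeff_zero] at this
    · exact mul_ne_zero (hA a ha hi (by simp)).2 (hA hi (by simp) b hb).1 this
    · exact fun l _ hl => by rw [coeff_C_mul_X_pow, if_neg (hmid l hl).ne']
    · exact fun h' => absurd (Finset.mem_univ hi) h'
  let p : F[X] := q hi hi * q hi lo * q lo hi * q lo lo
  have pne : p ≠ 0 := mul_ne_zero (mul_ne_zero (mul_ne_zero (qne hi (by simp) hi (by simp))
    (qne hi (by simp) lo (by simp))) (qne lo (by simp) hi (by simp))) (qne lo (by simp) lo (by simp))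
  have pdeg : p.natDegree ≤ 8 * R := by
    have := qdeg hi hi; have := qdeg hi lo; have := qdeg lo hi; have := qdeg lo lo
    have h1 : p.natDegree ≤ _ := natDegree_mul_le
    have h2 : (q hi hi * q hi lo * q lo hi).natDegree ≤ _ := natDegree_mul_le
    have h3 : (q hi hi * q hi lo).natDegree ≤ _ := natDegree_mul_le
    omega
  let S : Finset ι := (w.toWord.map Prod.fst).toFinset
  have hScard : S.card ≤ w.toWord.length := (List.toFinset_card_le _).trans (by rw [List.length_map])
  obtain ⟨u, hu⟩ := exists_ratio_avoid p pne S (by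
    have h1 : 2 * p.natDegree * S.card ≤ 16 * R * (w.toWord.length + 1) :=
      Nat.mul_le_mul (by omega) (by omega)
    omega)
  let Mi : ι → Matrix n n F := fun i => (φ (D (u i) * A) : Matrix n n F)
  let Ni : ι → Matrix n n F := fun i => (φ (D (u i) * A)⁻¹ : Matrix n n F)
  let s : Bool → n := fun b => cond b hi lo
  let E : Bool → n → ℕ := fun b l => cond b (e l) (2 * R - e l)
  have hEs : ∀ b, E b (s b) = 2 * R := by rintro (_ | _) <;> simp [E, s, hhi, hlo]
  have hEl : ∀ b l, l ≠ s b → E b l < 2 * R := by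
    rintro (_ | _) l hl
    · have := hpos l hl
      by_cases h : l = hi
      · subst h; simp only [E, cond_false, hhi]; omega
      · have := hmid l h; simp only [E, cond_false]; omega
    · exact hmid l hl
  have hele : ∀ l, e l ≤ 2 * R := by
    intro l
    by_cases h : l = hi
    · rw [h, hhi]
    · exact (hmid l h).le
  have hEle : ∀ b l, E b l ≤ 2 * R := by
    rintro (_ | _) l
    · simp only [E, cond_false]; omega
    · exact hele l
  let P : ι × Bool → Matrix n n F[X] := fun a => letterPoly (Mi a.1) (Ni a.1) (E a.2)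
  let U : ι × Bool → n → F := fun a i => Mi a.1 i (s a.2)
  let V : ι × Bool → n → F := fun a => Ni a.1 (s a.2)
  have hMN : ∀ i, Ni i * Mi i = 1 := fun i => by
    change ((φ (D (u i) * A)⁻¹ : GL n F) : Matrix n n F) * (φ (D (u i) * A) : GL n F) = 1
    rw [← Units.val_mul, ← map_mul, inv_mul_cancel, map_one, Units.val_one]
  have hVU : ∀ a b : ι × Bool, V a ⬝ᵥ U b = (Ni a.1 * Mi b.1) (s a.2) (s b.2) := fun a b => rfl
  have hV : ∀ a, V a ≠ 0 := fun a h => by
    have := hVU a a
    rw [h, zero_dotProduct, hMN, Matrix.one_apply_eq] at this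
    exact zero_ne_one this
  have hU : ∀ a, U a ≠ 0 := fun a h => by
    have := hVU a a
    rw [h, dotProduct_zero, hMN, Matrix.one_apply_eq] at this
    exact zero_ne_one this
  have hDinv : ∀ t : Fˣ, (φ (D t)⁻¹ : Matrix n n F) =
      ((t : F) ^ R)⁻¹ • diagonal (fun l => (t : F) ^ (2 * R - e l)) := by
    intro t
    rw [map_inv, Matrix.coe_units_inv]
    refine inv_eq_right_inv ?_
    rw [hD, Matrix.smul_mul, Matrix.mul_smul, smul_smul, diagonal_mul_diagonal]
    simp only [← pow_add, fun l => Nat.add_sub_cancel' (hele l)]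
    ext i j
    by_cases hij : i = j
    · subst hij
      simp only [Matrix.smul_apply, diagonal_apply_eq, Matrix.one_apply_eq, smul_eq_mul]
      rw [two_mul, pow_add, ← mul_assoc, mul_assoc ((t : F) ^ R)⁻¹, inv_mul_cancel₀ (pow_ne_zero _ t.ne_zero),
        mul_one, inv_mul_cancel₀ (pow_ne_zero _ t.ne_zero)]
    · simp [Matrix.smul_apply, diagonal_apply_ne _ hij, Matrix.one_apply_ne hij]
  have hchain : ∀ a b : ι × Bool, a.1 ∈ S → b.1 ∈ S → (a.1 = b.1 → a.2 = b.2) → V a ⬝ᵥ U b ≠ 0 := by
    intro a b ha hb hab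
    rw [hVU]
    by_cases h : a.1 = b.1
    · rw [h, hMN, hab h, Matrix.one_apply_eq]; exact one_ne_zero
    · have hne := hu _ ha _ hb h
      have hsa : ∀ c : Bool, s c ∈ [hi, lo] := by rintro (_ | _) <;> simp [s]
      have hq : (q (s a.2) (s b.2)).eval (((u a.1)⁻¹ * u b.1 : Fˣ) : F) ≠ 0 := by
        intro h0
        apply hne
        simp only [p, eval_mul]
        revert h0
        rcases a.2 with _ | _ <;> rcases b.2 with _ | _ <;> intro h0 <;> simp only [s, cond_true, cond_false] at h0 <;>
          rw [h0] <;> simp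
      have heq : (Ni a.1 * Mi b.1) (s a.2) (s b.2) =
          ((u a.1 : F) ^ R / (u b.1 : F) ^ R) * (q (s a.2) (s b.2)).eval (((u a.1)⁻¹ * u b.1 : Fˣ) : F) := by
        simp only [Ni, Mi, _root_.mul_inv_rev, map_mul, Units.val_mul, hD, hDinv]
        simp only [Matrix.mul_smul, Matrix.smul_mul, smul_smul]
        rw [
          Matrix.mul_assoc (φ A⁻¹ : Matrix n n F), ← Matrix.mul_assoc (diagonal _) (diagonal _) _,
          diagonal_mul_diagonal, ← Matrix.mul_assoc, Matrix.smul_apply, smul_eq_mul]
        simp only [q, eval_finsetSum, eval_mul, eval_C, eval_pow, eval_X, Units.val_inv_eq_inv_val,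
          Finset.mul_sum, Matrix.mul_apply]
        simp only [diagonal_apply, mul_ite, mul_zero, Finset.sum_ite_eq', Finset.mem_univ, if_true]
        refine Finset.sum_congr rfl fun l _ => ?_
        have h1 : (u a.1 : F) ^ (2 * R - e l) = (u a.1 : F) ^ (2 * R) / (u a.1 : F) ^ e l := by
          rw [eq_div_iff (pow_ne_zero _ (u a.1).ne_zero), ← pow_add, Nat.sub_add_cancel (hele l)]
        rw [h1, mul_pow, inv_pow, two_mul, pow_add]
        have := pow_ne_zero R (u a.1).ne_zero
        have := pow_ne_zero R (u b.1).ne_zero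
        have := pow_ne_zero (e l) (u a.1).ne_zero
        field_simp
        ring
      rw [heq]
      exact mul_ne_zero (div_ne_zero (pow_ne_zero _ (u a.1).ne_zero) (pow_ne_zero _ (u b.1).ne_zero)) hq
  have hwne : w.toWord ≠ [] := fun h => hw (FreeGroup.toWord_eq_nil_iff.1 h)
  obtain ⟨a₀, l₀, hl₀⟩ := List.exists_cons_of_ne_nil hwne
  obtain ⟨hQd, hQc⟩ := prod_natDegree_coeff P (fun a => vecMulVec (U a) (V a)) (2 * R)
    (fun a i j => letterPoly_natDegree_le _ _ _ _ (hEle a.2) i j)
    (fun a i j => letterPoly_coeff _ _ _ _ (s a.2) (hEs a.2) (hEl a.2) i j) w.toWord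
  obtain ⟨y, hy, hT⟩ := rank_one_chain U V hV l₀ a₀ (by
    have hred : w.toWord.IsChain (fun a b : ι × Bool => a.1 = b.1 → a.2 = b.2) := FreeGroup.isReduced_toWord
    rw [← hl₀]
    exact hred.imp_of_mem_imp (fun a b ha hb h => hchain a b (List.mem_toFinset.2 (List.mem_map_of_mem ha))
      (List.mem_toFinset.2 (List.mem_map_of_mem hb)) h))
  rw [← hl₀] at hT
  by_contra hcon
  push_neg at hcon
  have key : ∀ t : Fˣ, ∃ c : F, (w.toWord.map P).prod.map (eval (t : F)) = c • (1 : Matrix n n F) := by
    intro t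
    obtain ⟨c, hc⟩ := hcon (fun i => (D (u i) * A) * D t * (D (u i) * A)⁻¹)
    refine ⟨((t : F) ^ R) ^ w.toWord.length * c, ?_⟩
    rw [← smul_smul, ← hc]
    have hlift : (φ (FreeGroup.lift (fun i => (D (u i) * A) * D t * (D (u i) * A)⁻¹) w) : Matrix n n F) =
        ((w.toWord.map fun a => ((t : F) ^ R)⁻¹ • (P a).map (eval (t : F))).prod) := by
      conv_lhs => rw [← FreeGroup.mk_toWord (x := w)]
      rw [FreeGroup.lift_mk, ← Units.coeHom_apply, map_list_prod, map_list_prod, List.map_map, List.map_map]
      refine congrArg List.prod (List.map_congr_left fun a _ => ?_)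
      have hPm : (P a).map (eval (t : F)) = Mi a.1 * diagonal (fun l => (t : F) ^ E a.2 l) * Ni a.1 := by
        ext i j
        simp only [P, Matrix.map_apply, letterPoly_apply, eval_finsetSum]
        simp only [Matrix.mul_apply, diagonal_apply, mul_ite, mul_zero, Finset.sum_ite_eq', Finset.mem_univ,
          if_true, eval_mul, eval_C, eval_pow, eval_X]
        refine Finset.sum_congr rfl fun l _ => by ring
      rw [hPm]
      obtain ⟨i, _ | _⟩ := a
      · simp only [Function.comp_apply, cond_false, Units.coeHom_apply]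
        rw [show ((D (u i) * A) * D t * (D (u i) * A)⁻¹)⁻¹ = (D (u i) * A) * (D t)⁻¹ * (D (u i) * A)⁻¹ by group,
          map_mul φ _ (D (u i) * A)⁻¹, map_mul φ (D (u i) * A) (D t)⁻¹, Units.val_mul, Units.val_mul, hDinv t]
        simp only [Mi, Ni, E, cond_false, Matrix.mul_smul, Matrix.smul_mul]
      · simp only [Function.comp_apply, cond_true, Units.coeHom_apply]
        rw [map_mul φ _ (D (u i) * A)⁻¹, map_mul φ (D (u i) * A) (D t), Units.val_mul, Units.val_mul, hD t]
        simp only [Mi, Ni, E, cond_true, Matrix.mul_smul, Matrix.smul_mul]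
    rw [hlift]
    have hsm : ∀ (k : F) (L : List (Matrix n n F)), (L.map (k • ·)).prod = k ^ L.length • L.prod := by
      intro k L
      induction L with
      | nil => simp
      | cons M L ih => simp [ih, smul_smul, pow_succ', Matrix.smul_mul, Matrix.mul_smul, mul_comm]
    have := hsm (((t : F) ^ R)⁻¹) (w.toWord.map fun a => (P a).map (eval (t : F)))
    rw [List.map_map] at this
    rw [show (fun a => ((t : F) ^ R)⁻¹ • (P a).map (eval (t : F))) =
      ((((t : F) ^ R)⁻¹ • ·) ∘ fun a => (P a).map (eval (t : F))) from rfl, this, List.length_map, smul_smul,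
      inv_pow, mul_inv_cancel₀ (pow_ne_zero _ (pow_ne_zero _ t.ne_zero)), one_smul]
    have hev := map_list_prod (Polynomial.evalRingHom (t : F)).mapMatrix (w.toWord.map P)
    rw [List.map_map] at hev
    exact hev
  refine vecMulVec_not_scalar (U a₀) y (hU a₀) hy ⟨fun i j hij => ?_, fun i j => ?_⟩
  · have h0 : (w.toWord.map P).prod i j = 0 := by
      refine eq_zero_of_natDegree_lt_card_of_eval_eq_zero _ (f := fun t : Fˣ => (t : F)) (fun a b h => Units.ext h)
        (fun t => ?_) ?_
      · obtain ⟨c, hc⟩ := key t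
        have := congrFun (congrFun hc i) j
        rwa [Matrix.map_apply, Matrix.smul_apply, Matrix.one_apply_ne hij, smul_zero] at this
      · have := hQd i j
        have hlen : 2 * R * w.toWord.length ≤ 16 * R * (w.toWord.length + 1) := Nat.mul_le_mul (by omega) (by omega)
        rw [Fintype.card_units]
        omega
    have := hQc i j
    rw [h0, coeff_zero, hT] at this
    exact this.symm
  · have h0 : (w.toWord.map P).prod i i - (w.toWord.map P).prod j j = 0 := by
      refine eq_zero_of_natDegree_lt_card_of_eval_eq_zero _ (f := fun t : Fˣ => (t : F)) (fun a b h => Units.ext h)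
        (fun t => ?_) ?_
      · obtain ⟨c, hc⟩ := key t
        have h1 := congrFun (congrFun hc i) i
        have h2 := congrFun (congrFun hc j) j
        rw [Matrix.map_apply, Matrix.smul_apply, Matrix.one_apply_eq] at h1 h2
        rw [eval_sub, h1, h2, sub_self]
      · have := hQd i i
        have := hQd j j
        have := natDegree_sub_le ((w.toWord.map P).prod i i) ((w.toWord.map P).prod j j)
        have hlen : 2 * R * w.toWord.length ≤ 16 * R * (w.toWord.length + 1) := Nat.mul_le_mul (by omega) (by omega)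
        rw [Fintype.card_units]
        omega
    have h1 := hQc i i
    have h2 := hQc j j
    rw [sub_eq_zero] at h0
    rw [h0, h2, hT] at h1
    exact h1.symm

end Cfsg.Lib.Laws
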