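import Mathlib
import Cfsg.Agent.Lib.Laws.Generic

/-! Non-trivial laws fail in `SL₂` over large fields and in large alternating groups. -/

set_option autoImplicit false

namespace Cfsg.Lib.Laws

open Matrix
open scoped MatrixGroups

theorem exists_noncentral_SL_two {F : Type*} [Field F] [Fintype F] (w : FreeGroup ℕ) (hw : w ≠ 1)
    (hcard : 16 * (w.toWord.length + 1) + 1 < Fintype.card F) :
    ∃ f : ℕ → SL(2, F), FreeGroup.lift f w ∉ Subgroup.center SL(2, F) := by
  classical
  obtain ⟨c, hc⟩ : ∃ c : F, c ∉ ({0, -1} : Finset F) := by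
    have h2 : ({0, -1} : Finset F).card < (Finset.univ : Finset F).card := by
      have h := Finset.card_le_two (a := (0 : F)) (b := -1)
      rw [Finset.card_univ]; omega
    obtain ⟨c, -, hc⟩ := Finset.exists_mem_notMem_of_card_lt_card h2
    exact ⟨c, hc⟩
  simp only [Finset.mem_insert, Finset.mem_singleton, not_or] at hc
  let A : SL(2, F) := ⟨!![1, 1; c, c + 1], by simp [Matrix.det_fin_two_of]⟩
  let D : Fˣ → SL(2, F) := fun t => ⟨!![(t : F), 0; 0, (t : F)⁻¹], by simp [Matrix.det_fin_two_of]⟩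
  obtain ⟨f, hf⟩ := exists_nonscalar (Matrix.SpecialLinearGroup.toGL : SL(2, F) →* GL (Fin 2) F) ![2, 0] 1 0 1
    (by simp) (by simp) (by intro l hl; fin_cases l <;> simp_all) (by intro l hl; fin_cases l <;> simp_all)
    D (fun t => by
      ext i j
      fin_cases i <;> fin_cases j <;> simp [D, pow_two, Matrix.SpecialLinearGroup.toGL])
    A (by
      have hA' : ((A⁻¹ : SL(2, F)) : Matrix (Fin 2) (Fin 2) F) = !![c + 1, -1; -c, 1] := by
        rw [Matrix.SpecialLinearGroup.coe_inv, Matrix.adjugate_fin_two_of]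
      have hA1 : ((Matrix.SpecialLinearGroup.toGL A : GL (Fin 2) F) : Matrix (Fin 2) (Fin 2) F) =
          !![1, 1; c, c + 1] := rfl
      have hA2 : ((Matrix.SpecialLinearGroup.toGL A⁻¹ : GL (Fin 2) F) : Matrix (Fin 2) (Fin 2) F) =
          !![c + 1, -1; -c, 1] := hA'
      have hc1 : c + 1 ≠ 0 := fun h => hc.2 (eq_neg_of_add_eq_zero_left h)
      intro a ha b hb
      rw [hA1, hA2]
      fin_cases ha <;> fin_cases hb <;> simp [hc.1, hc1])
    w hw (by omega)
  refine ⟨f, fun hmem => ?_⟩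
  obtain ⟨r, -, hr⟩ := Matrix.SpecialLinearGroup.mem_center_iff.1 hmem
  refine hf r ?_
  change ((FreeGroup.lift f w : SL(2, F)) : Matrix (Fin 2) (Fin 2) F) = r • 1
  rw [← hr, Matrix.scalar_apply, Matrix.smul_one_eq_diagonal]

theorem notMem_center_of_injective {G H : Type*} [Group G] [Group H] (φ : G →* H) (hφ : Function.Injective φ)
    {g : G} (hg : g ∉ Subgroup.center G) : φ g ∉ Subgroup.center H := fun h => hg
  (Subgroup.mem_center_iff.2 fun x => hφ (by rw [map_mul, map_mul]; exact Subgroup.mem_center_iff.1 h (φ x)))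

/-- If a law fails non-centrally in `K` and `K` embeds in `H`, it fails in `H` modulo its centre. -/
theorem exists_ne_one_quotient_center {K H : Type*} [Group K] [Group H] (φ : K →* H) (hφ : Function.Injective φ)
    {ι : Type*} (w : FreeGroup ι) (f : ι → K) (hf : FreeGroup.lift f w ∉ Subgroup.center K) :
    ∃ g : ι → H ⧸ Subgroup.center H, FreeGroup.lift g w ≠ 1 := by
  refine ⟨fun i => QuotientGroup.mk (φ (f i)), fun h => notMem_center_of_injective φ hφ hf ?_⟩
  have e : FreeGroup.lift (fun i => (QuotientGroup.mk (φ (f i)) : H ⧸ Subgroup.center H)) =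
      ((QuotientGroup.mk' (Subgroup.center H)).comp φ).comp (FreeGroup.lift f) :=
    FreeGroup.ext_hom _ _ fun i => by simp
  rw [e] at h
  exact (QuotientGroup.eq_one_iff _).1 h

/-- For a non-trivial word, the large alternating groups contain non-central values. -/
theorem exists_noncentral_alternating (w : FreeGroup ℕ) (hw : w ≠ 1) :
    ∃ N : ℕ, ∀ n : ℕ, N ≤ n → ∃ f : ℕ → alternatingGroup (Fin n),
      FreeGroup.lift f w ∉ Subgroup.center (alternatingGroup (Fin n)) := by
  classical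
  obtain ⟨p, hp, hpp⟩ := Nat.exists_infinite_primes (16 * (w.toWord.length + 1) + 2)
  haveI : Fact p.Prime := ⟨hpp⟩
  obtain ⟨f, hf⟩ := exists_noncentral_SL_two (F := ZMod p) w hw (by rw [ZMod.card]; omega)
  refine ⟨Fintype.card SL(2, ZMod p) * 2 + 5, fun n hn => ?_⟩
  let e : SL(2, ZMod p) ⊕ SL(2, ZMod p) ≃ Fin (Fintype.card SL(2, ZMod p) * 2) := (Fintype.equivFin (SL(2, ZMod p) ⊕ SL(2, ZMod p))).trans (finCongr (by simp [mul_two]))
  let φ₀ : SL(2, ZMod p) →* Equiv.Perm (SL(2, ZMod p) ⊕ SL(2, ZMod p)) :=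
    (Equiv.Perm.sumCongrHom SL(2, ZMod p) SL(2, ZMod p)).comp ((MulAction.toPermHom SL(2, ZMod p) SL(2, ZMod p)).prod (MulAction.toPermHom SL(2, ZMod p) SL(2, ZMod p)))
  have hφ₀ : Function.Injective φ₀ := by
    intro a b h
    have := congrArg (fun σ : Equiv.Perm (SL(2, ZMod p) ⊕ SL(2, ZMod p)) => σ (Sum.inl 1)) h
    simpa [φ₀] using this
  let emb : Equiv.Perm (SL(2, ZMod p) ⊕ SL(2, ZMod p)) →* Equiv.Perm (Fin n) :=
    Equiv.Perm.viaEmbeddingHom (e.toEmbedding.trans (Fin.castLEEmb (by omega)))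
  have hemb : Function.Injective emb := Equiv.Perm.viaEmbeddingHom_injective _
  have hsign : ∀ k : SL(2, ZMod p), emb (φ₀ k) ∈ alternatingGroup (Fin n) := by
    intro k
    rw [Equiv.Perm.mem_alternatingGroup]
    simp only [emb, Equiv.Perm.viaEmbeddingHom_apply, Equiv.Perm.viaEmbedding, Equiv.Perm.sign_extendDomain]
    simp [φ₀, Int.units_mul_self]
  let φ : SL(2, ZMod p) →* alternatingGroup (Fin n) := (emb.comp φ₀).codRestrict _ hsign
  have hφ : Function.Injective φ := fun a b h => hφ₀ (hemb (congrArg Subtype.val h))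
  refine ⟨fun i => φ (f i), ?_⟩
  have e' : FreeGroup.lift (fun i => φ (f i)) = φ.comp (FreeGroup.lift f) :=
    FreeGroup.ext_hom _ _ fun i => by simp
  rw [e']
  exact notMem_center_of_injective φ hφ hf

end Cfsg.Lib.Laws
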