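import Mathlib
import Cfsg.Prelude.Def_Classical
import Cfsg.Agent.Lib.Linear.SLBasic
import Cfsg.Agent.Lib.Linear.HermStandard
import Cfsg.Agent.Lib.Laws.SLTwo

/-! Embeddings of `SL₂` and of alternating groups in the classical groups, for the failure of laws. -/

set_option autoImplicit false

namespace Cfsg.Lib.Laws

open Matrix
open scoped MatrixGroups

variable {F : Type*} [Field F]

/-- Block embedding of a pair of matrix groups, along an identification of index types. -/
noncomputable def blockHom {ι κ τ : Type*} [Fintype ι] [DecidableEq ι] [Fintype κ] [DecidableEq κ] [Fintype τ]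
    [DecidableEq τ] (e : ι ⊕ κ ≃ τ) : SpecialLinearGroup ι F →* SpecialLinearGroup τ F where
  toFun A := ⟨Matrix.reindex e e (Matrix.fromBlocks (A : Matrix ι ι F) 0 0 (1 : Matrix κ κ F)), by
    rw [det_reindex_self, det_fromBlocks_zero₂₁, det_one, mul_one, A.2]⟩
  map_one' := Subtype.ext (by simp [fromBlocks_one])
  map_mul' A B := Subtype.ext (by
    change Matrix.reindex e e (Matrix.fromBlocks ((A * B : SpecialLinearGroup ι F) : Matrix ι ι F) 0 0 1) =
      Matrix.reindex e e (Matrix.fromBlocks (A : Matrix ι ι F) 0 0 1) *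
        Matrix.reindex e e (Matrix.fromBlocks (B : Matrix ι ι F) 0 0 1)
    simp [Matrix.reindex_apply, Matrix.submatrix_mul_equiv, fromBlocks_multiply])

theorem blockHom_injective {ι κ τ : Type*} [Fintype ι] [DecidableEq ι] [Fintype κ] [DecidableEq κ] [Fintype τ]
    [DecidableEq τ] (e : ι ⊕ κ ≃ τ) : Function.Injective (blockHom (F := F) e) := by
  intro A B h
  have h1 : Matrix.reindex e e (Matrix.fromBlocks (A : Matrix ι ι F) 0 0 (1 : Matrix κ κ F)) =
      Matrix.reindex e e (Matrix.fromBlocks (B : Matrix ι ι F) 0 0 (1 : Matrix κ κ F)) := congrArg Subtype.val h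
  rw [EmbeddingLike.apply_eq_iff_eq] at h1
  exact Subtype.ext (Matrix.fromBlocks_inj.1 h1).1

/-- `SL₂` in the upper left corner of `SL_m`. -/
noncomputable def cornerHom (m : ℕ) (hm : 2 ≤ m) : SL(2, F) →* SL(m, F) :=
  blockHom ((finSumFinEquiv (m := 2) (n := m - 2)).trans (finCongr (by omega)))

theorem cornerHom_injective (m : ℕ) (hm : 2 ≤ m) : Function.Injective (cornerHom (F := F) m hm) :=
  blockHom_injective _

/-- Even permutations as permutation matrices. -/
noncomputable def altHom (F : Type*) [Field F] (m : ℕ) : alternatingGroup (Fin m) →* SL(m, F) where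
  toFun σ := ⟨(σ⁻¹ : alternatingGroup (Fin m)).1.permMatrix F, by
    rw [det_permutation, Equiv.Perm.mem_alternatingGroup.1 (σ⁻¹).2]; simp⟩
  map_one' := Subtype.ext (by simp)
  map_mul' a b := Subtype.ext (by
    change ((a * b)⁻¹ : alternatingGroup (Fin m)).1.permMatrix F =
      (a⁻¹ : alternatingGroup (Fin m)).1.permMatrix F * (b⁻¹ : alternatingGroup (Fin m)).1.permMatrix F
    simp [Matrix.permMatrix_mul, _root_.mul_inv_rev])

theorem altHom_val (m : ℕ) (σ : alternatingGroup (Fin m)) :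
    (altHom F m σ : Matrix (Fin m) (Fin m) F) = ((σ : Equiv.Perm (Fin m))⁻¹).permMatrix F := rfl

theorem altHom_injective (m : ℕ) : Function.Injective (altHom F m) := by
  intro a b h
  have h1 : ((a : Equiv.Perm (Fin m))⁻¹).permMatrix F = ((b : Equiv.Perm (Fin m))⁻¹).permMatrix F :=
    congrArg Subtype.val h
  refine inv_injective (Subtype.ext (Equiv.ext fun i => ?_))
  have h2 := congrFun (congrFun h1 i) ((a⁻¹).1 i)
  by_contra hne
  simp [Equiv.Perm.permMatrix, PEquiv.toMatrix_apply, Equiv.toPEquiv_apply] at h2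
  exact hne (by simpa using h2.symm)

theorem altHom_transpose_mul (m : ℕ) (σ : alternatingGroup (Fin m)) :
    (altHom F m σ : Matrix (Fin m) (Fin m) F)ᵀ * (altHom F m σ : Matrix (Fin m) (Fin m) F) = 1 := by
  simp [altHom_val, Matrix.transpose_permMatrix, ← Matrix.permMatrix_mul]

theorem altHom_map (m : ℕ) (σ : alternatingGroup (Fin m)) (f : F →+* F) :
    (altHom F m σ : Matrix (Fin m) (Fin m) F).map f = altHom F m σ := by
  ext i j
  simp [altHom_val, Equiv.Perm.permMatrix, PEquiv.toMatrix_apply, apply_ite f]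

/-- `A ↦ diag(A, A⁻ᵀ)`. -/
noncomputable def dblHom (m : ℕ) : SL(m, F) →* GL (Fin m ⊕ Fin m) F :=
  (({ toFun := fun A => Matrix.fromBlocks (A : Matrix (Fin m) (Fin m) F) 0 0
          ((A⁻¹ : SL(m, F)) : Matrix (Fin m) (Fin m) F)ᵀ
      map_one' := by simp [fromBlocks_one]
      map_mul' := fun A B => by simp [fromBlocks_multiply, _root_.mul_inv_rev, Matrix.transpose_mul] } :
    SL(m, F) →* Matrix (Fin m ⊕ Fin m) (Fin m ⊕ Fin m) F)).toHomUnits

theorem dblHom_val (m : ℕ) (A : SL(m, F)) : (dblHom m A : Matrix (Fin m ⊕ Fin m) (Fin m ⊕ Fin m) F) =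
    Matrix.fromBlocks (A : Matrix (Fin m) (Fin m) F) 0 0 ((A⁻¹ : SL(m, F)) : Matrix (Fin m) (Fin m) F)ᵀ := rfl

theorem inv_mul_coe {m : ℕ} (A : SL(m, F)) :
    ((A⁻¹ : SL(m, F)) : Matrix (Fin m) (Fin m) F) * (A : Matrix (Fin m) (Fin m) F) = 1 := by
  exact congrArg Subtype.val (inv_mul_cancel A)

theorem dblHom_injective (m : ℕ) : Function.Injective (dblHom (F := F) m) := by
  intro A B h
  have h1 := congrArg Units.val h
  rw [dblHom_val, dblHom_val] at h1
  exact Subtype.ext (Matrix.fromBlocks_inj.1 h1).1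

theorem dblHom_quad (m : ℕ) (A : SL(m, F)) (u : Fin m ⊕ Fin m → F) :
    quadFormPlus m F ((dblHom m A : Matrix (Fin m ⊕ Fin m) (Fin m ⊕ Fin m) F) *ᵥ u) = quadFormPlus m F u := by
  have hq : ∀ v : Fin m ⊕ Fin m → F, quadFormPlus m F v = (v ∘ Sum.inl) ⬝ᵥ (v ∘ Sum.inr) := fun v => rfl
  rw [dblHom_val, hq, hq, Matrix.fromBlocks_mulVec]
  simp only [Sum.elim_comp_inl, Sum.elim_comp_inr, Matrix.zero_mulVec, add_zero, zero_add]
  rw [dotProduct_comm, Matrix.mulVec_transpose, ← Matrix.dotProduct_mulVec, Matrix.mulVec_mulVec, inv_mul_coe,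
    Matrix.one_mulVec, dotProduct_comm]

/-- Extension of `diag(A, A⁻ᵀ)` by an identity block. -/
noncomputable def extHom (m : ℕ) {τ : Type} [Fintype τ] [DecidableEq τ] (κ : Type*) [Fintype κ] [DecidableEq κ]
    (e : (Fin m ⊕ Fin m) ⊕ κ ≃ τ) : SL(m, F) →* GL τ F :=
  (({ toFun := fun A => Matrix.reindex e e
          (Matrix.fromBlocks (dblHom m A : Matrix (Fin m ⊕ Fin m) (Fin m ⊕ Fin m) F) 0 0 1)
      map_one' := by simp [fromBlocks_one]
      map_mul' := fun A B => by simp [Matrix.reindex_apply, Matrix.submatrix_mul_equiv, fromBlocks_multiply] } :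
    SL(m, F) →* Matrix τ τ F)).toHomUnits

theorem extHom_injective (m : ℕ) {τ : Type} [Fintype τ] [DecidableEq τ] (κ : Type*) [Fintype κ] [DecidableEq κ]
    (e : (Fin m ⊕ Fin m) ⊕ κ ≃ τ) : Function.Injective (extHom (F := F) m κ e) := by
  intro A B h
  have h1 := congrArg Units.val h
  simp only [extHom, MonoidHom.coe_toHomUnits, MonoidHom.coe_mk, OneHom.coe_mk, EmbeddingLike.apply_eq_iff_eq] at h1
  exact dblHom_injective m (Units.ext (Matrix.fromBlocks_inj.1 h1).1)

theorem extHom_mulVec (m : ℕ) {τ : Type} [Fintype τ] [DecidableEq τ] (κ : Type*) [Fintype κ] [DecidableEq κ]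
    (e : (Fin m ⊕ Fin m) ⊕ κ ≃ τ) (A : SL(m, F)) (u : τ → F) (x : (Fin m ⊕ Fin m) ⊕ κ) :
    ((extHom m κ e A : Matrix τ τ F) *ᵥ u) (e x) =
      Sum.elim ((dblHom m A : Matrix (Fin m ⊕ Fin m) (Fin m ⊕ Fin m) F) *ᵥ (u ∘ e ∘ Sum.inl))
        (u ∘ e ∘ Sum.inr) x := by
  simp only [extHom, MonoidHom.coe_toHomUnits, MonoidHom.coe_mk, OneHom.coe_mk, Matrix.reindex_apply,
    Matrix.submatrix_mulVec_equiv, Function.comp_apply, Equiv.symm_apply_apply, Matrix.fromBlocks_mulVec,
    Matrix.zero_mulVec, add_zero, zero_add, Matrix.one_mulVec, Equiv.symm_symm, Function.comp_assoc]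

/-- A subgroup of an isometry group that is the image of a perfect group lies in `Ω`. -/
theorem exists_hom_omega {ι : Type} [Fintype ι] [DecidableEq ι] (Q : (ι → F) → F) {m : ℕ} (hm : 3 ≤ m)
    (φ : SL(m, F) →* GL ι F) (hφ : Function.Injective φ)
    (hQ : ∀ A u, Q ((φ A : Matrix ι ι F) *ᵥ u) = Q u) :
    ∃ ψ : SL(m, F) →* Omega F Q, Function.Injective ψ := by
  let φ' : SL(m, F) →* isometryGroup F Q := φ.codRestrict _ (fun A u _ => hQ A u)
  have hmem : ∀ A, φ' A ∈ commutator (isometryGroup F Q) := by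
    intro A
    have h : (commutator SL(m, F)).map φ' ≤ commutator (isometryGroup F Q) := by
      rw [commutator_def, Subgroup.map_commutator, commutator_def]
      exact Subgroup.commutator_mono le_top le_top
    refine h ⟨A, ?_, rfl⟩
    rw [Cfsg.Lib.Linear.commutator_SL_eq_top (by simpa using hm)]
    trivial
  exact ⟨φ'.codRestrict _ hmem, fun A B h => hφ (congrArg (fun x : Omega F Q => (x.1 : GL ι F)) h)⟩

theorem dblHom_mem_symplectic (m : ℕ) (A : SL(m, F)) :
    (dblHom m A : Matrix (Fin m ⊕ Fin m) (Fin m ⊕ Fin m) F) ∈ Matrix.symplecticGroup (Fin m) F := by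
  rw [SymplecticGroup.mem_iff, dblHom_val]
  have h1 := inv_mul_coe A
  have h2 : (A : Matrix (Fin m) (Fin m) F) * ((A⁻¹ : SL(m, F)) : Matrix (Fin m) (Fin m) F) = 1 := by
    exact congrArg Subtype.val (mul_inv_cancel A)
  simp [Matrix.J, fromBlocks_multiply, fromBlocks_transpose, ← Matrix.transpose_mul, Matrix.mul_adjugate, A.2]

/-- `SL_m` inside `Sp_{2m}`. -/
noncomputable def sympHom (m : ℕ) : SL(m, F) →* Matrix.symplecticGroup (Fin m) F where
  toFun A := ⟨dblHom m A, dblHom_mem_symplectic m A⟩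
  map_one' := Subtype.ext (by simp)
  map_mul' A B := Subtype.ext (by simp)

theorem sympHom_injective (m : ℕ) : Function.Injective (sympHom (F := F) m) := fun _ _ h =>
  dblHom_injective m (Units.ext (congrArg Subtype.val h))

section Unitary

variable [Fintype F] {q : ℕ}

theorem hermForm_mulVec {n : ℕ} (σ : F →+* F) (hσ : ∀ x, σ x = x ^ q) {M : Matrix (Fin n) (Fin n) F}
    (h : Mᵀ * M.map σ = 1) (u v : Fin n → F) : hermForm n F q (M *ᵥ u) (M *ᵥ v) = hermForm n F q u v := by
  have key : ∀ x y : Fin n → F, hermForm n F q x y = x ⬝ᵥ (σ ∘ y) := by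
    intro x y; simp [hermForm, dotProduct, hσ]
  rw [key, key]
  have hmap : σ ∘ (M *ᵥ v) = M.map σ *ᵥ (σ ∘ v) := funext fun i => RingHom.map_mulVec σ M v i
  rw [hmap, dotProduct_comm, Matrix.dotProduct_mulVec, ← Matrix.mulVec_transpose, Matrix.mulVec_mulVec, h,
    Matrix.one_mulVec, dotProduct_comm]

/-- `SL₂` over the subfield of order `q` inside `SU_n`. -/
theorem exists_hom_SU (hF : Fintype.card F = q ^ 2) (n : ℕ) (hn : 2 ≤ n) :
    ∃ (F₀ : Subfield F) (φ : SL(2, F₀) →* SU n F q), q ≤ Nat.card F₀ + 1 ∧ Function.Injective φ := by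
  classical
  obtain ⟨σ, hσ⟩ := Cfsg.Lib.Linear.Herm.exists_frob hF
  have hq := Cfsg.Lib.Linear.Herm.two_le_q hF
  have hσσ : ∀ x, σ (σ x) = x := fun x => by
    rw [hσ, hσ, ← pow_mul, ← sq, ← hF, FiniteField.pow_card]
  let F₀ : Subfield F := RingHom.eqLocusField σ (RingHom.id F)
  have hcard₀ : q ≤ Nat.card F₀ + 1 := by
    have hker : Nat.card (powMonoidHom (q - 1) : Fˣ →* Fˣ).ker ≤ Nat.card F₀ := by
      refine Nat.card_le_card_of_injective (fun z => ⟨((z : Fˣ) : F), ?_⟩) ?_
      · have hz := congrArg Units.val (MonoidHom.mem_ker.1 z.2)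
        rw [powMonoidHom_apply, Units.val_pow_eq_pow_val, Units.val_one] at hz
        show σ _ = _
        rw [hσ, RingHom.id_apply]
        calc ((z : Fˣ) : F) ^ q = ((z : Fˣ) : F) ^ (q - 1) * ((z : Fˣ) : F) := by
              rw [← pow_succ]; congr 1; omega
          _ = _ := by rw [hz, one_mul]
      · exact fun a b h => Subtype.ext (Units.ext (congrArg Subtype.val h))
    rw [IsCyclic.card_powMonoidHom_ker, Cfsg.Lib.Linear.Herm.card_units_sq hF, Nat.gcd_mul_left_left] at hker
    omega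
  obtain ⟨e, he⟩ : ∃ e : F, σ e ≠ e := by
    by_contra h
    push Not at h
    let p : Polynomial F := Polynomial.X ^ q - Polynomial.X
    have hp : p ≠ 0 := FiniteField.X_pow_card_sub_X_ne_zero F hq
    have := Polynomial.card_roots' p
    rw [FiniteField.X_pow_card_sub_X_natDegree_eq F hq] at this
    have hsub : (Finset.univ : Finset F).val ≤ p.roots := Finset.val_le_iff_val_subset.2 fun x _ => by
      rw [Polynomial.mem_roots hp]; simp [p, ← hσ, h x, Polynomial.IsRoot]
    have := Multiset.card_le_card hsub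
    rw [Finset.card_val, Finset.card_univ, hF] at this
    nlinarith
  set δ : F := e - σ e with hδdef
  have hδ : δ ≠ 0 := sub_ne_zero.2 (Ne.symm he)
  have hδσ : σ δ = -δ := by rw [hδdef, map_sub, hσσ, neg_sub]
  have hN : ∀ x : F, x * σ x = x ^ (q + 1) := fun x => by rw [hσ, pow_succ']
  have hcardN : Nat.card {x : F // x ^ (q + 1) = -1} = q + 1 :=
    Cfsg.Lib.Linear.Herm.card_norm_eq hF (neg_ne_zero.2 one_ne_zero) (by rw [← hσ, map_neg, map_one])
  have : Nontrivial {x : F // x ^ (q + 1) = -1} := (Finite.one_lt_card_iff_nontrivial).1 (by omega)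
  obtain ⟨⟨a, ha⟩, ⟨b, hb⟩, hab⟩ := exists_pair_ne {x : F // x ^ (q + 1) = -1}
  replace hab : a ≠ b := fun h => hab (Subtype.ext h)
  rw [← hN] at ha hb
  set s : F := 1 + a * σ b with hsdef
  have hs : s ≠ 0 := by
    intro h
    apply hab
    have hσb : σ b ≠ 0 := fun h0 => by rw [h0, mul_zero] at hb; exact one_ne_zero (neg_eq_zero.1 hb.symm)
    exact mul_right_cancel₀ hσb (by linear_combination h - hb + hsdef)
  set c : F := σ (δ / s) with hcdef
  have hc : σ c * s = δ := by rw [hcdef, hσσ, div_mul_cancel₀ _ hs]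
  let P : Matrix (Fin 2) (Fin 2) F := !![1, c; a, c * b]
  let H : Matrix (Fin 2) (Fin 2) F := !![0, δ; -δ, 0]
  have hP : Pᵀ * P.map σ = H := by
    have h2 : σ s = 1 + σ a * b := by rw [hsdef, map_add, map_one, map_mul, hσσ]
    have h3 := congrArg σ hc
    rw [map_mul, hσσ, h2, hδσ] at h3
    ext i j
    fin_cases i <;> fin_cases j <;> simp [P, H, Matrix.mul_apply, Fin.sum_univ_two]
    · linear_combination ha
    · linear_combination hc - σ c * hsdef
    · linear_combination h3
    · linear_combination c * σ c * hb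
  have hPdet : IsUnit P.det := by
    rw [isUnit_iff_ne_zero]
    intro h0
    have := congrArg Matrix.det hP
    rw [Matrix.det_mul, Matrix.det_transpose, h0, zero_mul, Matrix.det_fin_two_of] at this
    exact hδ (by simpa using this.symm)
  let conj : SL(2, F) →* SL(2, F) :=
    { toFun := fun A => ⟨P * A * P⁻¹, by
        rw [Matrix.det_mul, Matrix.det_mul, A.2, mul_one, ← Matrix.det_mul, Matrix.mul_nonsing_inv P hPdet,
          Matrix.det_one]⟩
      map_one' := Subtype.ext (by simp [Matrix.mul_nonsing_inv P hPdet])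
      map_mul' := fun A B => Subtype.ext (by
        change P * ((A * B : SL(2, F)) : Matrix (Fin 2) (Fin 2) F) * P⁻¹ =
          (P * (A : Matrix (Fin 2) (Fin 2) F) * P⁻¹) * (P * (B : Matrix (Fin 2) (Fin 2) F) * P⁻¹)
        rw [show ((A * B : SL(2, F)) : Matrix (Fin 2) (Fin 2) F) =
          (A : Matrix (Fin 2) (Fin 2) F) * (B : Matrix (Fin 2) (Fin 2) F) from rfl]
        rw [show P * A * P⁻¹ * (P * B * P⁻¹) = P * A * (P⁻¹ * P) * B * P⁻¹ by simp [Matrix.mul_assoc],
          Matrix.nonsing_inv_mul P hPdet]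
        simp [Matrix.mul_assoc]) }
  let ψ : SL(2, F₀) →* SL(n, F) := ((cornerHom n hn).comp conj).comp (SpecialLinearGroup.map F₀.subtype)
  have hconj : Function.Injective conj := by
    intro A B h
    have h1 : P * (A : Matrix (Fin 2) (Fin 2) F) * P⁻¹ = P * B * P⁻¹ := congrArg Subtype.val h
    have h2 := congrArg (fun M => P⁻¹ * M * P) h1
    simp only [Matrix.mul_assoc, Matrix.nonsing_inv_mul_cancel_left _ _ hPdet, Matrix.nonsing_inv_mul P hPdet,
      Matrix.mul_one] at h2
    exact Subtype.ext h2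
  have hψ : ∀ A, ψ A ∈ SU n F q := by
    intro A u v
    refine hermForm_mulVec σ hσ ?_ u v
    set A' : Matrix (Fin 2) (Fin 2) F := (A : Matrix (Fin 2) (Fin 2) F₀).map F₀.subtype with hA'
    have hfix : A'.map σ = A' := by
      ext i j
      exact ((A : Matrix (Fin 2) (Fin 2) F₀) i j).2
    have hdet : A' 0 0 * A' 1 1 - A' 0 1 * A' 1 0 = 1 := by
      rw [← Matrix.det_fin_two]; exact (SpecialLinearGroup.map (n := Fin 2) F₀.subtype A).2
    have hH : A'ᵀ * H * A' = H := by
      ext i j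
      fin_cases i <;> fin_cases j <;> simp [H, Matrix.mul_apply, Fin.sum_univ_two] <;>
        first | ring1 | linear_combination δ * hdet | linear_combination -δ * hdet
    have hM : (P * A' * P⁻¹)ᵀ * (P * A' * P⁻¹).map σ = 1 := by
      have hPi : P.map σ * P⁻¹.map σ = 1 := by
        rw [← Matrix.map_mul, Matrix.mul_nonsing_inv P hPdet]; simp
      rw [Matrix.transpose_mul, Matrix.transpose_mul, Matrix.map_mul, Matrix.map_mul, hfix]
      calc P⁻¹ᵀ * (A'ᵀ * Pᵀ) * (P.map σ * A' * P⁻¹.map σ)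
          = P⁻¹ᵀ * (A'ᵀ * (Pᵀ * P.map σ) * A') * P⁻¹.map σ := by simp only [Matrix.mul_assoc]
        _ = P⁻¹ᵀ * (Pᵀ * P.map σ) * P⁻¹.map σ := by rw [hP, hH]
        _ = (P * P⁻¹)ᵀ * (P.map σ * P⁻¹.map σ) := by rw [Matrix.transpose_mul]; simp only [Matrix.mul_assoc]
        _ = 1 := by rw [hPi, Matrix.mul_nonsing_inv P hPdet, Matrix.transpose_one, Matrix.mul_one]
    change (Matrix.reindex _ _ (Matrix.fromBlocks (P * A' * P⁻¹) 0 0 (1 : Matrix (Fin (n - 2)) (Fin (n - 2)) F)))ᵀ *
      (Matrix.reindex _ _ (Matrix.fromBlocks (P * A' * P⁻¹) 0 0 (1 : Matrix (Fin (n - 2)) (Fin (n - 2)) F))).map σ = 1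
    rw [Matrix.reindex_apply, Matrix.transpose_submatrix, ← Matrix.submatrix_map, Matrix.submatrix_mul_equiv,
      Matrix.fromBlocks_transpose, Matrix.fromBlocks_map, Matrix.fromBlocks_multiply]
    simp only [Matrix.transpose_zero, Matrix.map_zero _ (map_zero σ), Matrix.transpose_one, Matrix.map_one _ (map_zero σ) (map_one σ),
      Matrix.mul_zero, Matrix.zero_mul, add_zero, zero_add, Matrix.one_mul, hM, fromBlocks_one, Matrix.submatrix_one_equiv]
  refine ⟨F₀, ψ.codRestrict _ hψ, hcard₀, fun A B h => ?_⟩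
  have h1 : SpecialLinearGroup.map (n := Fin 2) F₀.subtype A = SpecialLinearGroup.map (n := Fin 2) F₀.subtype B :=
    hconj (cornerHom_injective n hn (congrArg Subtype.val h))
  refine Subtype.ext (Matrix.map_injective F₀.subtype_injective ?_)
  exact congrArg Subtype.val h1

theorem exists_hom_SU_alt (hF : Fintype.card F = q ^ 2) (n : ℕ) :
    ∃ φ : alternatingGroup (Fin n) →* SU n F q, Function.Injective φ := by
  obtain ⟨σ, hσ⟩ := Cfsg.Lib.Linear.Herm.exists_frob hF
  refine ⟨(altHom F n).codRestrict _ (fun g u v => hermForm_mulVec σ hσ ?_ u v),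
    fun a b h => altHom_injective n (congrArg Subtype.val h)⟩
  change (altHom F n g : Matrix (Fin n) (Fin n) F)ᵀ * (altHom F n g : Matrix (Fin n) (Fin n) F).map σ = 1
  rw [altHom_map, altHom_transpose_mul]

end Unitary

end Cfsg.Lib.Laws
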